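import Groth.Agent.Lib.AttrBorel21.BorelDisc
import Groth.Agent.Lib.AttrBorel21.CentreQuot
import Groth.Agent.Lib.FinBorel21.Pairs
import Groth.Agent.Lib.MTRigid29.SpMultType
import Groth.Agent.Lib.MTRigid29.TrivGlobal
import Groth.Agent.Lib.MTRigid29.TransporterSection
import Groth.Agent.Lib.MultType.Family
import Groth.Agent.Lib.CartanRel21.Basic
import Groth.Agent.Lib.SpreadSub19.Basic
import Groth.Prelude.Def_SGA3x
import Mathlib.AlgebraicGeometry.AlgClosed.Basic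

/-!
# Etale local conjugacy of maximal tori
-/

set_option autoImplicit false
set_option linter.style.haveILetI false
set_option linter.unusedSectionVars false
set_option backward.isDefEq.respectTransparency.types false
set_option maxSynthPendingDepth 3

universe u

open CategoryTheory Limits MonoidalCategory CartesianMonoidalCategory MonObj AlgebraicGeometry Opposite
open scoped TensorProduct

noncomputable section

namespace Groth.Agent.MTConj21

open MTRigid29 DiagGL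

/-- Maximal tori of a smooth group, possibly disconnected, are conjugate. -/
theorem exists_conj_maxTorus_disc {k : Type u} [Field k] [IsAlgClosed k]
    {G T₁ T₂ : Over (Spec (CommRingCat.of k))} [GrpObj G] [GrpObj T₁] [GrpObj T₂]
    [Smooth G.hom] [QuasiCompact G.hom] {i₁ : T₁ ⟶ G} {i₂ : T₂ ⟶ G}
    (h₁ : AGF.IsMaxTorus i₁) (h₂ : AGF.IsMaxTorus i₂) :
    ∃ g : 𝟙_ (Over (Spec (CommRingCat.of k))) ⟶ G, SGA3x.ConjBy i₁ i₂ g := by
  obtain ⟨G₀, _, j, hjm, hjo, hjc, hs, hq, hn⟩ := AttrBorel21.exists_component_closed G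
  haveI := hjm
  haveI := hjo
  haveI := hjc
  haveI := hs
  haveI := hq
  haveI := hn
  haveI : Mono j := Over.mono_of_mono_left j
  haveI := (TorPts21.props_of_isTorus h₁.2.2.1).2.2.1
  haveI := (TorPts21.props_of_isTorus h₂.2.2.1).2.2.1
  haveI := h₁.1
  haveI := h₂.1
  obtain ⟨l₁, hl₁⟩ := BorelFix21.exists_lift_component j j.left.isClosedEmbedding.isClosed_range i₁
  obtain ⟨l₂, hl₂⟩ := BorelFix21.exists_lift_component j j.left.isClosedEmbedding.isClosed_range i₂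
  obtain ⟨g, φ, hφ⟩ := AttrBorel21.exists_conj_maximalTorus
    (FinBorel21.isMaxTorus_factor j l₁ (by rw [hl₁]; exact h₁))
    (FinBorel21.isMaxTorus_factor j l₂ (by rw [hl₂]; exact h₂))
  refine ⟨g ≫ j, φ, ?_⟩
  have h := congrArg (· ≫ j) hφ
  simp only [MonObj.mul_comp, GrpObj.inv_comp, Category.assoc] at h
  rw [hl₁, hl₂] at h
  exact h

variable {S : Scheme.{u}}

/-- A group of multiplicative type and of finite type splits etale-locally. -/
theorem exists_etale_chars_ft {H : Over S} [GrpObj H] (hH : SGA3x.IsMultTypeFT H) (s : S) :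
    ∃ (S' : Scheme.{u}) (e : S' ⟶ S), Etale e ∧ s ∈ Set.range e ∧
      ∃ (N : Type) (_ : AddCommGroup N), AddGroup.FG N ∧ Nonempty (Chars N (Red.bc e H)) := by
  obtain ⟨V, hV, hsV, -⟩ := exists_isAffineOpen_mem_and_subset (x := s) (U := ⊤) trivial
  let g : Spec (CommRingCat.of (Γ(S, V) : Type u)) ⟶ S := hV.fromSpec
  haveI : IsOpenImmersion g := inferInstanceAs (IsOpenImmersion hV.fromSpec)
  obtain ⟨p, hp⟩ := hV.range_fromSpec.symm.subset hsV
  obtain ⟨A, _, _, j, -, hsplit, hft, ⟨e⟩⟩ := exists_model_ft hH g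
  obtain ⟨J, hJ, T, _, _, hff, hd⟩ := hsplit
  classical
  haveI := hff
  haveI : ∀ i, Module.Flat Γ(S, V) (T i) := fun i =>
    Module.Flat.of_retract (LinearMap.single Γ(S, V) T i) (LinearMap.proj i)
      (LinearMap.proj_comp_single_same _ _ _)
  haveI := hft
  obtain ⟨R', _, _, _, hp', N, _, hN, ⟨C⟩⟩ :=
    IsotrivialNormal.exists_etale_chars (MultTypeLib.isMultType_of_family T hd) p
  let q : Spec (CommRingCat.of R') ⟶ Spec (CommRingCat.of (Γ(S, V) : Type u)) :=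
    Spec.map (CommRingCat.ofHom (algebraMap Γ(S, V) R'))
  haveI : Etale q := (HasRingHomProperty.Spec_iff (P := @Etale)).2 (RingHom.etale_algebraMap.2 inferInstance)
  obtain ⟨p', hp''⟩ := hp'
  refine ⟨_, q ≫ g, inferInstance, ⟨p', ?_⟩, N, inferInstance, hN, ⟨charsComp g q H ?_⟩⟩
  · rw [Scheme.Hom.comp_apply]
    exact (congrArg g hp'').trans hp
  · haveI : IsMonHom e.inv.hom.hom := e.inv.hom.isMonHom_hom
    haveI : IsMonHom e.hom.hom.hom := e.hom.hom.isMonHom_hom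
    haveI := isMonHom_map e.inv.hom.hom q
    let E : Red.bc q (Red.bc g H) ≅ Red.bc q (CoactBr.sp Γ(S, V) A) :=
      (Over.pullback q).mapIso ⟨e.inv.hom.hom, e.hom.hom.hom,
        by rw [← Mon.comp_hom', ← Grp.comp', e.inv_hom_id]; rfl,
        by rw [← Mon.comp_hom', ← Grp.comp', e.hom_inv_id]; rfl⟩
    haveI : IsMonHom E.hom := isMonHom_map e.inv.hom.hom q
    exact C.transport (Grp.mkIso' E)

/-- Geometric points lift along etale maps. -/
theorem exists_geomPt_over {S' : Scheme.{u}} (e : S' ⟶ S) [Etale e] (s : S) (hs : s ∈ Set.range e) :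
    ∃ k : Spec (CommRingCat.of (AlgebraicClosure (S.residueField s))) ⟶ S', k ≫ e = Red.geomPt s := by
  obtain ⟨x, hx⟩ := hs
  have hpt : Red.geomPt s (IsLocalRing.closedPoint _) = s :=
    Scheme.fromSpecResidueField_apply s _
  obtain ⟨z, -, -⟩ := Scheme.Pullback.exists_preimage_pullback (f := e) (g := Red.geomPt s) x
    (IsLocalRing.closedPoint _) (hx.trans hpt.symm)
  haveI : LocallyOfFiniteType (pullback.snd e (Red.geomPt s)) := inferInstance
  haveI : JacobsonSpace ↥(pullback e (Red.geomPt s)) :=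
    LocallyOfFiniteType.jacobsonSpace (pullback.snd e (Red.geomPt s))
  obtain ⟨w, -, hw⟩ := nonempty_inter_closedPoints (Z := (Set.univ : Set ↥(pullback e (Red.geomPt s))))
    ⟨z, trivial⟩ isClosed_univ.isLocallyClosed
  refine ⟨pointOfClosedPoint (pullback.snd e (Red.geomPt s)) w hw ≫ pullback.fst e (Red.geomPt s), ?_⟩
  rw [Category.assoc, pullback.condition, ← Category.assoc, pointOfClosedPoint_comp, Category.id_comp]

variable {G T₁ T₂ : Over S} [GrpObj G] [GrpObj T₁] [GrpObj T₂]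

set_option maxHeartbeats 1000000 in
/-- Over a base where both maximal tori split, a homomorphism between them restricting to the conjugation at a given
geometric point. -/
theorem exists_hom_conj_geom [Smooth G.hom] [QuasiCompact G.hom] {i₁ : T₁ ⟶ G} {i₂ : T₂ ⟶ G}
    (h₁ : Red.IsMaximalTorus i₁) (h₂ : Red.IsMaximalTorus i₂) [IsMonHom i₁] [IsMonHom i₂]
    {S₁ : Scheme.{u}} (e : S₁ ⟶ S) {N₁ N₂ : Type} [AddCommGroup N₁] [AddCommGroup N₂] [AddGroup.FG N₁]
    [AddGroup.FG N₂] (C₁ : Chars N₁ (Red.bc e T₁)) (C₂ : Chars N₂ (Red.bc e T₂)) (s : S)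
    (k₁ : Spec (CommRingCat.of (AlgebraicClosure (S.residueField s))) ⟶ S₁) (hk : k₁ ≫ e = Red.geomPt s) :
    ∃ (v : Red.bc e T₁ ≅ Red.bc e T₂) (_ : IsMonHom v.hom) (c : 𝟙_ (Over _) ⟶ Red.bc k₁ (Red.bc e G)),
      (toUnit _ ≫ c) * (Over.pullback k₁).map ((Over.pullback e).map i₁) * (toUnit _ ≫ c)⁻¹ =
        (Over.pullback k₁).map (v.hom ≫ (Over.pullback e).map i₂) := by
  let Ω := AlgebraicClosure (S.residueField s)
  let k := Red.geomPt s
  haveI : Smooth (Red.bc k G).hom := inferInstanceAs (Smooth (pullback.snd G.hom k))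
  haveI : QuasiCompact (Red.bc k G).hom := inferInstanceAs (QuasiCompact (pullback.snd G.hom k))
  haveI := isMonHom_map i₁ k
  haveI := isMonHom_map i₂ k
  haveI := h₂.2.1
  obtain ⟨c₀, φ₀, hφ₀⟩ :=
    exists_conj_maxTorus_disc (CartanRel21.isMaxTorus_geom h₁ s) (CartanRel21.isMaxTorus_geom h₂ s)
  haveI : IsMonHom φ₀.hom := by
    haveI : Mono ((Over.pullback k).map i₂) := inferInstance
    refine TorsorSch25.isMonHom_of_points _ fun X a b => (cancel_mono ((Over.pullback k).map i₂)).1 ?_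
    rw [MonObj.mul_comp (a ≫ φ₀.hom) (b ≫ φ₀.hom), Category.assoc, Category.assoc, Category.assoc]
    erw [← hφ₀]
    simp only [MonObj.mul_comp, MonObj.comp_mul, GrpObj.comp_inv]
    simp only [← Category.assoc]
    rw [toUnit_unique ((a * b) ≫ toUnit _) (toUnit X), toUnit_unique (a ≫ toUnit _) (toUnit X),
      toUnit_unique (b ≫ toUnit _) (toUnit X)]
    group
  let BG := SpreadSub19.bcComp e k₁ hk G
  let B₁ := SpreadSub19.bcComp e k₁ hk T₁
  let B₂ := SpreadSub19.bcComp e k₁ hk T₂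
  haveI : IsMonHom BG.hom := SpreadSub19.bcComp_isMonHom e k₁ hk G
  haveI : IsMonHom B₁.hom := SpreadSub19.bcComp_isMonHom e k₁ hk T₁
  haveI : IsMonHom B₂.hom := SpreadSub19.bcComp_isMonHom e k₁ hk T₂
  let φ₁ := B₁ ≪≫ φ₀ ≪≫ B₂.symm
  haveI : IsMonHom φ₁.hom := BorelFix21.isMonHom_of_comp B₂.hom φ₁.hom (by
    rw [show φ₁.hom ≫ B₂.hom = B₁.hom ≫ φ₀.hom by simp [φ₁]]
    infer_instance)
  haveI : IsMonHom φ₁.inv := BorelFix21.isMonHom_of_comp φ₁.hom φ₁.inv (by rw [Iso.inv_hom_id]; infer_instance)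
  let D₁ := C₁.baseChange k₁ _
  let D₂ := C₂.baseChange k₁ _
  obtain ⟨α, hα⟩ := exists_mapChS_field D₁ D₂ φ₁.hom
  obtain ⟨β, hβ⟩ := exists_mapChS_field D₂ D₁ φ₁.inv
  haveI : Mono (mapChS D₁ D₂ α) := hα ▸ inferInstance
  haveI : Mono (mapChS D₂ D₁ β) := hβ ▸ inferInstance
  have hαs := surjective_of_mono_mapChS D₁ D₂ α
  have hβs := surjective_of_mono_mapChS D₂ D₁ β
  haveI : Module.Finite ℤ N₂ := Module.Finite.iff_addGroup_fg.2 inferInstance
  have hαi : Function.Injective α := by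
    have h := OrzechProperty.injective_of_surjective_endomorphism (β.comp α).toIntLinearMap (hβs.comp hαs)
    exact Function.Injective.of_comp (f := β) h
  let ε : N₂ ≃+ N₁ := AddEquiv.ofBijective α ⟨hαi, hαs⟩
  let v : Red.bc e T₁ ≅ Red.bc e T₂ :=
    ⟨mapChS C₁ C₂ α, mapChS C₂ C₁ ε.symm.toAddMonoidHom,
      by rw [mapChS_comp, show α.comp ε.symm.toAddMonoidHom = AddMonoidHom.id N₁ from
        AddMonoidHom.ext fun n => ε.apply_symm_apply n, mapChS_id],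
      by rw [mapChS_comp, show ε.symm.toAddMonoidHom.comp α = AddMonoidHom.id N₂ from
        AddMonoidHom.ext fun n => ε.symm_apply_apply n, mapChS_id]⟩
  refine ⟨v, isMonHom_mapChS C₁ C₂ α, c₀ ≫ BG.inv, ?_⟩
  rw [Functor.map_comp, show (Over.pullback k₁).map v.hom = φ₁.hom from
    (pullback_map_mapChS C₁ C₂ k₁ α).trans hα.symm]
  rw [← cancel_mono BG.hom]
  simp only [MonObj.mul_comp, GrpObj.inv_comp, Category.assoc, Iso.inv_hom_id, Category.comp_id]
  rw [SpreadSub19.bcComp_natural e k₁ hk i₁, SpreadSub19.bcComp_natural e k₁ hk i₂]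
  simp only [φ₁, B₂, Iso.trans_hom, Iso.symm_hom, Category.assoc, Iso.inv_hom_id_assoc]
  erw [← hφ₀]
  simp only [MonObj.comp_mul, GrpObj.comp_inv]
  rw [← Category.assoc, toUnit_unique (B₁.hom ≫ toUnit _) (toUnit _)]

set_option maxHeartbeats 1000000 in
/-- Etale-locally around a point, two maximal tori are conjugate. -/
theorem exists_etale_conjCond [Smooth G.hom] [IsSeparated G.hom] [QuasiCompact G.hom] {i₁ : T₁ ⟶ G} {i₂ : T₂ ⟶ G}
    (h₁ : Red.IsMaximalTorus i₁) (h₂ : Red.IsMaximalTorus i₂) (s : S) :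
    ∃ (S' : Scheme.{u}) (f : S' ⟶ S), Etale f ∧ s ∈ Set.range f ∧ ∃ l : Over.mk f ⟶ G, ConjCond i₁ i₂ l := by
  haveI := h₁.1
  haveI := h₂.1
  have m₁ := TorPts21.isMultTypeFT_of_isTorus h₁.2.2.1
  have m₂ := TorPts21.isMultTypeFT_of_isTorus h₂.2.2.1
  obtain ⟨Sa, ea, hea, ⟨sa, hsa⟩, N₁, _, hN₁, ⟨Ca⟩⟩ := exists_etale_chars_ft m₁ s
  haveI := hea
  obtain ⟨Sb, eb, heb, ⟨sb, hsb⟩, N₂, _, hN₂, ⟨Cb⟩⟩ := exists_etale_chars_ft (isMultTypeFT_bc m₂ ea) sa
  haveI := heb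
  haveI := hN₁
  haveI := hN₂
  let e := eb ≫ ea
  have C₁ : Chars N₁ (Red.bc e T₁) := charsComp ea eb T₁ (Ca.baseChange eb _)
  have C₂ : Chars N₂ (Red.bc e T₂) := charsComp ea eb T₂ Cb
  obtain ⟨k₁, hk⟩ := exists_geomPt_over e s ⟨sb, by rw [Scheme.Hom.comp_apply, hsb, hsa]⟩
  obtain ⟨v, hv, c, hc⟩ := exists_hom_conj_geom h₁ h₂ e C₁ C₂ s k₁ hk
  haveI := hv
  haveI := isMonHom_map i₁ e
  haveI := isMonHom_map i₂ e
  let u₁ := (Over.pullback e).map i₁
  let u₂ := v.hom ≫ (Over.pullback e).map i₂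
  have hG' : Smooth (Red.bc e G).hom := inferInstanceAs (Smooth (pullback.snd G.hom e))
  haveI : IsSeparated (Red.bc e G).hom := inferInstanceAs (IsSeparated (pullback.snd G.hom e))
  obtain ⟨Z, j, -, hZ, hiff⟩ := TorusCentr19.exists_transporter_hom_smooth''
    (isMT_of_chars C₁) hG' u₁ u₂
  haveI := hZ
  let j₀ : Over.mk k₁ ⟶ (Over.map k₁).obj (𝟙_ (Over _)) := Over.homMk (𝟙 _) (by
    show 𝟙 _ ≫ 𝟙 _ ≫ k₁ = k₁
    simp)
  obtain ⟨t, -⟩ := (hiff (Over.mk k₁) (j₀ ≫ fl k₁ _ c)).2 fun X x h => by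
    let Y : Over (Spec (CommRingCat.of (AlgebraicClosure (S.residueField s)))) := Over.mk x.left
    let i : X ≅ (Over.map k₁).obj Y := Over.isoMk (Iso.refl _) (by
      show 𝟙 _ ≫ x.left ≫ k₁ = X.hom
      rw [Category.id_comp]
      exact Over.w x)
    obtain ⟨a, ha⟩ := fl_surjective k₁ _ (i.inv ≫ h)
    have hx : x ≫ j₀ = i.hom ≫ (Over.map k₁).map (toUnit Y) :=
      Over.OverMorphism.ext ((Category.comp_id _).trans (Category.id_comp _).symm)
    have hh : h = i.hom ≫ fl k₁ _ a := by rw [ha, Iso.hom_inv_id_assoc]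
    have h' := congrArg (fun z => i.hom ≫ fl k₁ _ (a ≫ z)) hc
    simp only [MonObj.comp_mul, GrpObj.comp_inv, fl_mul, fl_inv k₁, fl_comp_map] at h'
    rw [← Category.assoc a, toUnit_unique (a ≫ toUnit _) (toUnit Y), fl_comp] at h'
    rw [hh, ← Category.assoc x j₀, hx]
    simp only [Category.assoc, u₁, u₂] at h' ⊢
    exact h'
  let x₀ := t.left (IsLocalRing.closedPoint _)
  obtain ⟨S', e', s', he', hs', l, hl⟩ := SmoothSection.exists_etale_section Z.hom x₀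
  haveI := he'
  refine ⟨S', e' ≫ e, inferInstance, ⟨s', ?_⟩, ?_⟩
  · rw [Scheme.Hom.comp_apply, hs', ← Scheme.Hom.comp_apply t.left, Over.w t]
    show e (k₁ _) = s
    rw [← Scheme.Hom.comp_apply, hk]
    exact Scheme.fromSpecResidueField_apply s _
  let lZ : Over.mk e' ⟶ Z := Over.homMk l hl
  let j' : Over.mk (e' ≫ e) ⟶ (Over.map e).obj (Over.mk e') :=
    Over.homMk (𝟙 _) (Category.id_comp _)
  refine ⟨j' ≫ fl e G (lZ ≫ j), fun X x => ?_⟩
  let Y : Over Sb := Over.mk (x.left ≫ e')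
  let y : Y ⟶ Over.mk e' := Over.homMk x.left rfl
  let i : X ≅ (Over.map e).obj Y := Over.isoMk (Iso.refl _) (by
    show 𝟙 _ ≫ (x.left ≫ e') ≫ e = X.hom
    rw [Category.id_comp, Category.assoc]
    exact Over.w x)
  have hx : x ≫ j' = i.hom ≫ (Over.map e).map y :=
    Over.OverMorphism.ext ((Category.comp_id _).trans (Category.id_comp _).symm)
  have hL : x ≫ j' ≫ fl e G (lZ ≫ j) = i.hom ≫ fl e G (y ≫ lZ ≫ j) := by
    rw [← Category.assoc, hx, Category.assoc, ← fl_comp]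
  have key : ∀ a : Y ⟶ Red.bc e T₁, (x ≫ j' ≫ fl e G (lZ ≫ j)) * ((i.hom ≫ fl e T₁ a) ≫ i₁) *
      (x ≫ j' ≫ fl e G (lZ ≫ j))⁻¹ = (i.hom ≫ fl e T₂ (a ≫ v.hom)) ≫ i₂ := fun a => by
    have h := congrArg (fun z => i.hom ≫ fl e G z) ((hiff _ (lZ ≫ j)).1 ⟨lZ, rfl⟩ Y y a)
    simp only [u₁, u₂, fl_mul, fl_inv e, MonObj.comp_mul, GrpObj.comp_inv] at h
    rw [← Category.assoc a v.hom, fl_comp_map, fl_comp_map] at h
    rw [hL, Category.assoc, Category.assoc]
    exact h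
  refine ⟨fun a => ?_, fun b => ?_⟩
  · obtain ⟨a', ha⟩ := fl_surjective e T₁ (i.inv ≫ a)
    refine ⟨i.hom ≫ fl e T₂ (a' ≫ v.hom), ?_⟩
    rw [← key a', ha, Iso.hom_inv_id_assoc]
  · obtain ⟨b', hb⟩ := fl_surjective e T₂ (i.inv ≫ b)
    refine ⟨i.hom ≫ fl e T₁ (b' ≫ v.inv), ?_⟩
    have h := key (b' ≫ v.inv)
    rw [Category.assoc b', Iso.inv_hom_id, Category.comp_id, hb, Iso.hom_inv_id_assoc] at h
    rw [← h]
    group

/-- Factorisation through a monomorphism is local. -/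
theorem exists_factor_of_openCover {P Y Z : Scheme.{u}} (z : Z ⟶ Y) [Mono z] (g : P ⟶ Y) (𝒰 : P.OpenCover)
    (h : ∀ i, ∃ l : 𝒰.X i ⟶ Z, l ≫ z = 𝒰.f i ≫ g) : ∃ l : P ⟶ Z, l ≫ z = g := by
  choose l hl using h
  refine ⟨𝒰.glueMorphisms l (fun i j => ?_), 𝒰.hom_ext _ _ fun i => ?_⟩
  · rw [← cancel_mono z, Category.assoc, Category.assoc, hl, hl, pullback.condition_assoc]
  · rw [← Category.assoc, Scheme.Cover.ι_glueMorphisms, hl]

/-- The conjugation condition glues along a coproduct. -/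
theorem conjCond_sigmaDesc {I : Type u} {U : I → Scheme.{u}} (f : ∀ i, U i ⟶ S)
    (l : ∀ i, Over.mk (f i) ⟶ G) {i₁ : T₁ ⟶ G} {i₂ : T₂ ⟶ G} [Mono i₁] [Mono i₂]
    (hl : ∀ i, ConjCond i₁ i₂ (l i)) (L : Over.mk (Sigma.desc f) ⟶ G)
    (hL : ∀ i, Sigma.ι U i ≫ L.left = (l i).left) : ConjCond i₁ i₂ L := by
  intro X x
  let 𝒰 := (sigmaOpenCover U).pullback₁ x.left
  haveI : Mono i₁.left := Over.mono_left_of_mono i₁
  haveI : Mono i₂.left := Over.mono_left_of_mono i₂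
  let P : I → Over S := fun i => Over.mk (pullback.fst x.left (Sigma.ι U i) ≫ X.hom)
  let w : ∀ i, P i ⟶ X := fun i => Over.homMk (pullback.fst x.left (Sigma.ι U i)) rfl
  let y : ∀ i, P i ⟶ Over.mk (f i) := fun i => Over.homMk (pullback.snd x.left (Sigma.ι U i)) (by
    show _ ≫ f i = _ ≫ X.hom
    rw [← Over.w x, pullback.condition_assoc]
    show _ = _ ≫ _ ≫ Sigma.desc f
    rw [Sigma.ι_desc])
  have hw : ∀ i, w i ≫ x ≫ L = y i ≫ l i := fun i => Over.OverMorphism.ext (by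
    show pullback.fst x.left (Sigma.ι U i) ≫ x.left ≫ L.left = pullback.snd x.left (Sigma.ι U i) ≫ (l i).left
    rw [← hL, pullback.condition_assoc])
  refine ⟨fun a => ?_, fun b => ?_⟩
  · obtain ⟨d, hd⟩ := exists_factor_of_openCover i₂.left ((x ≫ L) * (a ≫ i₁) * (x ≫ L)⁻¹).left 𝒰 fun i => by
      obtain ⟨b, hb⟩ := (hl i _ (y i)).1 (w i ≫ a)
      refine ⟨b.left, ?_⟩
      show (b ≫ i₂).left = (w i ≫ ((x ≫ L) * (a ≫ i₁) * (x ≫ L)⁻¹)).left
      rw [← hb, MonObj.comp_mul, MonObj.comp_mul, GrpObj.comp_inv, hw, Category.assoc]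
    refine ⟨Over.homMk d ?_, Over.OverMorphism.ext hd.symm⟩
    rw [← Over.w i₂, ← Category.assoc, hd]
    exact Over.w _
  · obtain ⟨d, hd⟩ := exists_factor_of_openCover i₁.left ((x ≫ L)⁻¹ * (b ≫ i₂) * (x ≫ L)).left 𝒰 fun i => by
      obtain ⟨a, ha⟩ := (hl i _ (y i)).2 (w i ≫ b)
      refine ⟨a.left, ?_⟩
      show (a ≫ i₁).left = (w i ≫ ((x ≫ L)⁻¹ * (b ≫ i₂) * (x ≫ L))).left
      rw [← ha, MonObj.comp_mul, MonObj.comp_mul, GrpObj.comp_inv, hw, Category.assoc]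
    refine ⟨Over.homMk d ?_, Over.OverMorphism.ext hd.symm⟩
    rw [← Over.w i₁, ← Category.assoc, hd]
    exact Over.w _

/-- A point satisfying the conjugation condition conjugates the base changes. -/
theorem conjBy_of_conjCond {S' : Scheme.{u}} (f : S' ⟶ S) (l : Over.mk f ⟶ G) {i₁ : T₁ ⟶ G} {i₂ : T₂ ⟶ G}
    [Mono i₁] [Mono i₂] (hl : ConjCond i₁ i₂ l) :
    ∃ g : 𝟙_ (Over S') ⟶ Red.bc f G, SGA3x.ConjBy ((Over.pullback f).map i₁) ((Over.pullback f).map i₂) g := by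
  obtain ⟨g', hg'⟩ := exists_section_bc f l
  have key : ∀ (Y : Over S'),
      (∀ a : Y ⟶ Red.bc f T₁, ∃ b : Y ⟶ Red.bc f T₂, (toUnit Y ≫ g') * (a ≫ (Over.pullback f).map i₁) *
        (toUnit Y ≫ g')⁻¹ = b ≫ (Over.pullback f).map i₂) ∧
      (∀ b : Y ⟶ Red.bc f T₂, ∃ a : Y ⟶ Red.bc f T₁, (toUnit Y ≫ g')⁻¹ * (b ≫ (Over.pullback f).map i₂) *
        (toUnit Y ≫ g') = a ≫ (Over.pullback f).map i₁) := by
    intro Y
    obtain ⟨x, hx⟩ := hg' Y
    refine ⟨fun a => ?_, fun b => ?_⟩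
    · obtain ⟨c, hc⟩ := (hl _ x).1 (fl f T₁ a)
      obtain ⟨z, rfl⟩ := fl_surjective f T₂ c
      refine ⟨z, fl_injective f G ?_⟩
      rw [fl_mul, fl_mul, fl_comp_map, fl_comp_map, fl_inv f G, hx]
      exact hc
    · obtain ⟨c, hc⟩ := (hl _ x).2 (fl f T₂ b)
      obtain ⟨z, rfl⟩ := fl_surjective f T₁ c
      refine ⟨z, fl_injective f G ?_⟩
      rw [fl_mul, fl_mul, fl_comp_map, fl_comp_map, fl_inv f G, hx]
      exact hc
  obtain ⟨φ, hφ⟩ := (key (Red.bc f T₁)).1 (𝟙 _)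
  obtain ⟨ψ, hψ⟩ := (key (Red.bc f T₂)).2 (𝟙 _)
  rw [Category.id_comp] at hφ hψ
  have hnat : ∀ {Y Y' : Over S'} (k : Y' ⟶ Y), k ≫ toUnit Y ≫ g' = toUnit Y' ≫ g' := fun k => by
    rw [← Category.assoc, toUnit_unique (k ≫ toUnit _) (toUnit _)]
  refine ⟨g', ⟨φ, ψ, ?_, ?_⟩, hφ⟩
  · refine (cancel_mono ((Over.pullback f).map i₁)).1 ?_
    rw [Category.assoc, ← hψ, MonObj.comp_mul, MonObj.comp_mul, GrpObj.comp_inv, hnat, ← hφ, Category.id_comp]
    group
  · refine (cancel_mono ((Over.pullback f).map i₂)).1 ?_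
    rw [Category.assoc, ← hφ, MonObj.comp_mul, MonObj.comp_mul, GrpObj.comp_inv, hnat, ← hψ, Category.id_comp]
    group

set_option maxHeartbeats 1000000 in
/-- Maximal tori of a smooth separated group are conjugate after an etale surjective base change. -/
theorem exists_etale_conjBy [Smooth G.hom] [IsSeparated G.hom] [QuasiCompact G.hom] {i₁ : T₁ ⟶ G} {i₂ : T₂ ⟶ G}
    (h₁ : Red.IsMaximalTorus i₁) (h₂ : Red.IsMaximalTorus i₂) :
    ∃ (S' : Scheme.{u}) (f : S' ⟶ S), Etale f ∧ Surjective f ∧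
      ∃ g : 𝟙_ (Over S') ⟶ Red.bc f G, SGA3x.ConjBy ((Over.pullback f).map i₁) ((Over.pullback f).map i₂) g := by
  choose U f hf hr l hl using exists_etale_conjCond h₁ h₂
  haveI := h₁.2.1
  haveI := h₂.2.1
  have hF : ∀ s, Sigma.ι U s ≫ Sigma.desc f = f s := fun s => Sigma.ι_desc _ _
  let L : Over.mk (Sigma.desc f) ⟶ G := Over.homMk (Sigma.desc fun s => (l s).left) (Sigma.hom_ext _ _ fun s => by
    show _ ≫ _ ≫ G.hom = _ ≫ Sigma.desc f
    rw [hF, Sigma.ι_desc_assoc]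
    exact Over.w (l s))
  have hC : ConjCond i₁ i₂ L :=
    conjCond_sigmaDesc f l hl L fun s => Sigma.ι_desc (fun s => (l s).left) s
  haveI hE : Etale (Sigma.desc f) := IsZariskiLocalAtSource.sigmaDesc hf
  refine ⟨_, Sigma.desc f, hE, ⟨fun s => ?_⟩, conjBy_of_conjCond _ L hC⟩
  obtain ⟨z, hz⟩ := hr s
  exact ⟨Sigma.ι U s z, by rw [← Scheme.Hom.comp_apply, hF]; exact hz⟩

end Groth.Agent.MTConj21
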